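import Cfsg.Prelude.Def_OddOrderLocal
import Mathlib.NumberTheory.Multiplicity
import Mathlib.GroupTheory.Sylow
import Mathlib.FieldTheory.Finite.Basic
import Mathlib.Tactic

/-!
Metacyclic `p`-groups for odd `p`: the derived subgroup, the centre and the abelian subgroups.
-/

namespace CfsgLib.MetacyclicPGroup

open scoped commutatorElement

/-- Lifting the exponent, in divisibility form. -/
theorem dvd_pow_sub_one_iff {p : ℕ} (hp : p.Prime) (hp2 : p ≠ 2) {r : ℤ} (hr : (p : ℤ) ∣ r - 1)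
    (α i j : ℕ) :
    (p : ℤ) ^ α ∣ (p : ℤ) ^ j * (r ^ p ^ i - 1) ↔ (p : ℤ) ^ α ∣ (p : ℤ) ^ (i + j) * (r - 1) := by
  have hP : Prime (p : ℤ) := Nat.prime_iff_prime_int.mp hp
  have hnr : ¬ (p : ℤ) ∣ r := fun h => hP.not_unit (isUnit_of_dvd_one (by simpa using dvd_sub h hr))
  have h1 : emultiplicity (p : ℤ) (r ^ p ^ i - 1) = emultiplicity (p : ℤ) (r - 1) + i := by
    have := Int.emultiplicity_pow_sub_pow hp (hp.odd_of_ne_two hp2) (y := 1) hr hnr (p ^ i)
    rw [one_pow] at this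
    rw [this, emultiplicity_pow_self_of_prime hp.prime]
  rw [pow_dvd_iff_le_emultiplicity, pow_dvd_iff_le_emultiplicity, emultiplicity_mul hP,
    emultiplicity_mul hP, h1, emultiplicity_pow_self_of_prime hP, emultiplicity_pow_self_of_prime hP]
  have : ((j : ℕ∞) + (emultiplicity (p : ℤ) (r - 1) + i)) =
      ((i + j : ℕ) : ℕ∞) + emultiplicity (p : ℤ) (r - 1) := by
    push_cast; ring
  rw [this]

/-- Coordinates for a metacyclic `p`-group. -/
structure Data (G : Type*) [Group G] (p : ℕ) where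
  /-- The cyclic normal generator. -/
  a : G
  /-- A lift of a generator of the quotient. -/
  b : G
  α : ℕ
  β : ℕ
  e : ℕ
  hα : orderOf a = p ^ α
  normal : (Subgroup.zpowers a).Normal
  cover : ∀ g : G, ∃ m k : ℤ, g = a ^ m * b ^ k
  hβ : ∀ k : ℤ, b ^ k ∈ Subgroup.zpowers a ↔ (p : ℤ) ^ β ∣ k
  hcomm : ∀ i j : ℕ, Commute (b ^ (p ^ i)) (a ^ (p ^ j)) ↔ e ≤ i + j
  card_eq : Nat.card G = p ^ (α + β)
  card_comm : Nat.card ↥(commutator G) = p ^ e

variable {G : Type*} [Group G] [Finite G] {p : ℕ} [Fact p.Prime]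

theorem exists_data (hp : p ≠ 2) (hG : IsPGroup p G) (hmc : Cfsg.IsMetacyclic G) :
    Nonempty (Data G p) := by
  classical
  obtain ⟨N, hN, hNc, hQc⟩ := hmc
  obtain ⟨⟨a, haN⟩, ha⟩ := hNc.exists_generator
  obtain ⟨q, hq⟩ := hQc.exists_generator
  obtain ⟨b, rfl⟩ := QuotientGroup.mk_surjective q
  have hNa : N = Subgroup.zpowers a := by
    refine le_antisymm (fun x hx => ?_) (Subgroup.zpowers_le.mpr haN)
    obtain ⟨k, hk⟩ := Subgroup.mem_zpowers_iff.mp (ha ⟨x, hx⟩)
    exact ⟨k, congrArg Subtype.val hk⟩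
  obtain ⟨α, hα⟩ := IsPGroup.iff_orderOf.mp hG a
  obtain ⟨β, hβ⟩ := IsPGroup.iff_orderOf.mp (hG.to_quotient N) (QuotientGroup.mk b)
  have hβ' : ∀ k : ℤ, b ^ k ∈ Subgroup.zpowers a ↔ (p : ℤ) ^ β ∣ k := by
    intro k
    rw [← hNa, ← QuotientGroup.eq_one_iff, QuotientGroup.mk_zpow, ← orderOf_dvd_iff_zpow_eq_one, hβ]
    push_cast
    rfl
  have hcover : ∀ g : G, ∃ m k : ℤ, g = a ^ m * b ^ k := by
    intro g
    obtain ⟨k, hk⟩ := Subgroup.mem_zpowers_iff.mp (hq (QuotientGroup.mk g))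
    have h : g * (b ^ k)⁻¹ ∈ N := by
      rw [← QuotientGroup.eq_one_iff, QuotientGroup.mk_mul, QuotientGroup.mk_inv,
        QuotientGroup.mk_zpow, hk, mul_inv_cancel]
    rw [hNa] at h
    obtain ⟨m, hm⟩ := Subgroup.mem_zpowers_iff.mp h
    exact ⟨m, k, by rw [hm, inv_mul_cancel_right]⟩
  have hcard : Nat.card G = p ^ (α + β) := by
    rw [Subgroup.card_eq_card_quotient_mul_card_subgroup N,
      ← orderOf_eq_card_of_forall_mem_zpowers hq, hβ, hNa, Nat.card_zpowers, hα, pow_add, mul_comm]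
  obtain ⟨r₀, hr₀⟩ := Subgroup.mem_zpowers_iff.mp (hNa ▸ hN.conj_mem a haN b)
  obtain ⟨r, hr, hr1⟩ : ∃ r : ℤ, b * a * b⁻¹ = a ^ r ∧ (p : ℤ) ∣ r - 1 := by
    rcases Nat.eq_zero_or_pos α with h0 | hpos
    · have ha1 : a = 1 := orderOf_eq_one_iff.mp (by rw [hα, h0, pow_zero])
      exact ⟨1, by simp [ha1], by simp⟩
    refine ⟨r₀, hr₀.symm, ?_⟩
    have hpow : ∀ k : ℕ, b ^ k * a * (b ^ k)⁻¹ = a ^ (r₀ ^ k) := by
      intro k
      induction k with
      | zero => simp
      | succ k ih =>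
        calc b ^ (k + 1) * a * (b ^ (k + 1))⁻¹ = b * (b ^ k * a * (b ^ k)⁻¹) * b⁻¹ := by
              rw [pow_succ']; group
          _ = a ^ (r₀ ^ (k + 1)) := by rw [ih, ← conj_zpow, ← hr₀, ← zpow_mul, pow_succ']
    obtain ⟨m, hm⟩ := Subgroup.mem_zpowers_iff.mp ((hβ' ((p ^ β : ℕ) : ℤ)).mpr (by push_cast; rfl))
    rw [zpow_natCast] at hm
    have h1 : a ^ (r₀ ^ p ^ β - 1) = 1 := by
      rw [zpow_sub_one, ← hpow, ← hm]; group
    rw [← orderOf_dvd_iff_zpow_eq_one, hα] at h1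
    have h2 : (p : ℤ) ∣ r₀ ^ p ^ β - 1 :=
      (Int.natCast_dvd_natCast.mpr (dvd_pow_self p hpos.ne')).trans h1
    rw [← ZMod.intCast_zmod_eq_zero_iff_dvd] at h2 ⊢
    push_cast at h2 ⊢
    rwa [ZMod.pow_card_pow] at h2
  have hpow : ∀ (k : ℕ) (t : ℤ), b ^ k * a ^ t * (b ^ k)⁻¹ = a ^ (r ^ k * t) := by
    intro k
    induction k with
    | zero => intro t; simp
    | succ k ih =>
      intro t
      calc b ^ (k + 1) * a ^ t * (b ^ (k + 1))⁻¹ = b * (b ^ k * a ^ t * (b ^ k)⁻¹) * b⁻¹ := by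
            rw [pow_succ']; group
        _ = a ^ (r ^ (k + 1) * t) := by rw [ih, ← conj_zpow, hr, ← zpow_mul, pow_succ', mul_assoc]
  have hex : ∃ e : ℕ, (p : ℤ) ^ α ∣ (p : ℤ) ^ e * (r - 1) := ⟨α, dvd_mul_right _ _⟩
  set e := Nat.find hex
  have he : ∀ m : ℕ, (p : ℤ) ^ α ∣ (p : ℤ) ^ m * (r - 1) ↔ e ≤ m :=
    fun m => ⟨fun h => Nat.find_min' hex h,
      fun h => (Nat.find_spec hex).trans (mul_dvd_mul_right (pow_dvd_pow _ h) _)⟩
  have hcomm : ∀ i j : ℕ, Commute (b ^ (p ^ i)) (a ^ (p ^ j)) ↔ e ≤ i + j := by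
    intro i j
    rw [← he, ← dvd_pow_sub_one_iff Fact.out hp hr1 α i j, commute_iff_eq, ← mul_inv_eq_iff_eq_mul,
      ← zpow_natCast a (p ^ j), hpow]
    rw [show ((p : ℤ) ^ j * (r ^ p ^ i - 1)) = r ^ p ^ i * ((p ^ j : ℕ) : ℤ) - ((p ^ j : ℕ) : ℤ) by
      push_cast; ring]
    rw [← mul_inv_eq_one, ← zpow_sub, ← orderOf_dvd_iff_zpow_eq_one, hα]
    push_cast
    rfl
  have hc : Nat.card ↥(commutator G) = p ^ e := by
    set c := a ^ (r - 1) with hcd
    have hcG : c ∈ commutator G := by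
      have : c = ⁅b, a⁆ := by rw [commutatorElement_def, hr, hcd, zpow_sub_one]
      rw [this, commutator_def]
      exact Subgroup.commutator_mem_commutator (Subgroup.mem_top _) (Subgroup.mem_top _)
    have hbc : b * c * b⁻¹ = c ^ r := by
      rw [hcd, ← conj_zpow, hr, ← zpow_mul, ← zpow_mul, mul_comm]
    haveI hcn : (Subgroup.zpowers c).Normal := by
      constructor
      intro x hx g
      obtain ⟨m, k, rfl⟩ := hcover g
      obtain ⟨t, rfl⟩ := Subgroup.mem_zpowers_iff.mp hx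
      obtain ⟨n, hn⟩ : ∃ n : ℕ, b ^ k = b ^ n := by
        obtain ⟨n, hn⟩ := (mem_powers_iff_mem_zpowers.mpr
          (Subgroup.mem_zpowers_iff.mpr ⟨k, rfl⟩) : b ^ k ∈ Submonoid.powers b)
        exact ⟨n, hn.symm⟩
      rw [hn]
      refine ⟨r ^ n * t, ?_⟩
      calc c ^ (r ^ n * t) = a ^ m * a ^ (r ^ n * ((r - 1) * t)) * (a ^ m)⁻¹ := by
            rw [hcd, ← zpow_mul, ← zpow_add, ← zpow_neg, ← zpow_add]; congr 1; ring
        _ = a ^ m * b ^ n * c ^ t * (a ^ m * b ^ n)⁻¹ := by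
            rw [← hpow, hcd, ← zpow_mul]; group
    have hab : commutator G ≤ Subgroup.zpowers c := by
      let π := QuotientGroup.mk' (Subgroup.zpowers c)
      have hπ : Commute (π b) (π a) := by
        rw [commute_iff_eq, ← map_mul, ← map_mul]
        refine QuotientGroup.eq.mpr ?_
        have : (b * a)⁻¹ * (a * b) = b⁻¹ * c⁻¹ * b := by
          have hr' : b * a = a ^ r * b := by rw [← hr, inv_mul_cancel_right]
          rw [hr', hcd, zpow_sub_one]; group
        rw [this]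
        simpa using hcn.conj_mem _ (inv_mem (Subgroup.mem_zpowers c)) b⁻¹
      rw [commutator_def, Subgroup.commutator_le]
      intro g _ h _
      rw [← QuotientGroup.eq_one_iff]
      change π ⁅g, h⁆ = 1
      obtain ⟨m, k, rfl⟩ := hcover g
      obtain ⟨m', k', rfl⟩ := hcover h
      rw [map_commutatorElement, commutatorElement_eq_one_iff_commute, map_mul, map_mul, map_zpow,
        map_zpow, map_zpow, map_zpow]
      have h1 : Commute (π a ^ m) (π a ^ m' * π b ^ k') :=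
        ((Commute.refl _).zpow_zpow m m').mul_right (hπ.symm.zpow_zpow m k')
      have h2 : Commute (π b ^ k) (π a ^ m' * π b ^ k') :=
        (hπ.zpow_zpow k m').mul_right ((Commute.refl _).zpow_zpow k k')
      exact h1.mul_left h2
    rw [le_antisymm hab (Subgroup.zpowers_le.mpr hcG), Nat.card_zpowers]
    have hco : ∀ m : ℕ, c ^ (p ^ m) = 1 ↔ e ≤ m := by
      intro m
      rw [← he, hcd, ← zpow_natCast, ← zpow_mul, ← orderOf_dvd_iff_zpow_eq_one, hα, mul_comm (r - 1)]
      push_cast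
      rfl
    obtain ⟨i, hi, hio⟩ := (Nat.dvd_prime_pow (Fact.out : p.Prime)).mp
      (orderOf_dvd_of_pow_eq_one ((hco e).mpr le_rfl))
    rw [hio, le_antisymm hi ((hco i).mp (hio ▸ pow_orderOf_eq_one c))]
  exact ⟨{ a := a, b := b, α := α, β := β, e := e, hα := hα, normal := hNa ▸ hN, cover := hcover,
           hβ := hβ', hcomm := hcomm, card_eq := hcard, card_comm := hc }⟩

namespace Data

variable (D : Data G p)

theorem exists_pow_dvd_iff {S : AddSubgroup ℤ} {n : ℕ} (h : ((p : ℤ) ^ n) ∈ S) :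
    ∃ i ≤ n, ∀ k : ℤ, k ∈ S ↔ (p : ℤ) ^ i ∣ k := by
  obtain ⟨g, hg⟩ := Int.subgroup_cyclic S
  have hS : ∀ k, k ∈ S ↔ g ∣ k := fun k => by
    rw [hg, AddSubgroup.mem_closure_singleton]
    exact ⟨fun ⟨m, hm⟩ => ⟨m, by rw [← hm, smul_eq_mul, mul_comm]⟩,
      fun ⟨m, hm⟩ => ⟨m, by rw [hm, smul_eq_mul, mul_comm]⟩⟩
  have hd : g.natAbs ∣ p ^ n := by
    have := Int.natAbs_dvd_natAbs.mpr ((hS _).mp h)
    simpa [Int.natAbs_pow] using this
  obtain ⟨i, hi, hgi⟩ := (Nat.dvd_prime_pow (Fact.out : p.Prime)).mp hd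
  refine ⟨i, hi, fun k => ?_⟩
  rw [hS, ← Int.natAbs_dvd, hgi]
  push_cast
  rfl

/-- Coordinates of a subgroup. -/
theorem subgroup_shape (L : Subgroup G) :
    ∃ i ≤ D.β, ∃ j ≤ D.α, ∃ m : ℤ, D.a ^ m * D.b ^ (p ^ i) ∈ L ∧ D.a ^ (p ^ j) ∈ L ∧
      (∀ k : ℤ, D.a ^ k ∈ L → (p : ℤ) ^ j ∣ k) ∧
      (∀ (n k : ℤ), D.a ^ n * D.b ^ k ∈ L → (p : ℤ) ^ i ∣ k) ∧
      L ≤ Subgroup.closure {D.a ^ (p ^ j), D.a ^ m * D.b ^ (p ^ i)} ∧
      Nat.card L = p ^ ((D.α - j) + (D.β - i)) := by
  classical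
  haveI := D.normal
  let π := QuotientGroup.mk' (Subgroup.zpowers D.a)
  have hπa : ∀ n : ℤ, π (D.a ^ n) = 1 := fun n =>
    (QuotientGroup.eq_one_iff _).mpr ⟨n, rfl⟩
  have hord : orderOf (π D.b) = p ^ D.β := by
    refine Nat.dvd_antisymm ?_ ?_
    · rw [orderOf_dvd_iff_pow_eq_one, ← map_pow]
      refine (QuotientGroup.eq_one_iff _).mpr ?_
      rw [← zpow_natCast]
      exact (D.hβ _).mpr (by push_cast; rfl)
    · rw [← Int.natCast_dvd_natCast, Nat.cast_pow, ← D.hβ, zpow_natCast]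
      refine (QuotientGroup.eq_one_iff (N := Subgroup.zpowers D.a) _).mp ?_
      rw [QuotientGroup.mk_pow]
      exact pow_orderOf_eq_one _
  let S : AddSubgroup ℤ :=
    { carrier := {k | π (D.b ^ k) ∈ L.map π}
      zero_mem' := by
        show π (D.b ^ (0 : ℤ)) ∈ L.map π
        rw [zpow_zero, map_one]
        exact one_mem _
      add_mem' := fun {x y} hx hy => by
        simp only [Set.mem_ofPred_eq, zpow_add, map_mul] at *
        exact mul_mem hx hy
      neg_mem' := fun {x} hx => by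
        simp only [Set.mem_ofPred_eq, zpow_neg, map_inv] at *
        exact inv_mem hx }
  let T : AddSubgroup ℤ :=
    { carrier := {k | D.a ^ k ∈ L}
      zero_mem' := by simp
      add_mem' := fun {x y} hx hy => by
        simp only [Set.mem_ofPred_eq, zpow_add] at *
        exact mul_mem hx hy
      neg_mem' := fun {x} hx => by
        simp only [Set.mem_ofPred_eq, zpow_neg] at *
        exact inv_mem hx }
  obtain ⟨i, hi, hS⟩ := exists_pow_dvd_iff (p := p) (S := S) (n := D.β)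
    (show π (D.b ^ ((p : ℤ) ^ D.β)) ∈ L.map π by
      rw [show π (D.b ^ ((p : ℤ) ^ D.β)) = 1 from
        (QuotientGroup.eq_one_iff _).mpr ((D.hβ _).mpr dvd_rfl)]
      exact one_mem _)
  obtain ⟨j, hj, hT⟩ := exists_pow_dvd_iff (p := p) (S := T) (n := D.α)
    (show D.a ^ ((p : ℤ) ^ D.α) ∈ L by
      rw [← Nat.cast_pow, zpow_natCast, ← D.hα, pow_orderOf_eq_one]
      exact one_mem L)
  have hSi : π (D.b ^ ((p : ℤ) ^ i)) ∈ L.map π := (hS _).mpr dvd_rfl
  obtain ⟨l, hl, hle⟩ := hSi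
  obtain ⟨m, hm⟩ : l * (D.b ^ ((p : ℤ) ^ i))⁻¹ ∈ Subgroup.zpowers D.a := by
    rw [← QuotientGroup.eq_one_iff, QuotientGroup.mk_mul, QuotientGroup.mk_inv]
    change π l * (π (D.b ^ ((p : ℤ) ^ i)))⁻¹ = 1
    rw [hle, mul_inv_cancel]
  have hz : D.a ^ m * D.b ^ (p ^ i) = l := by
    rw [← zpow_natCast D.b (p ^ i), Nat.cast_pow]
    simp only at hm
    rw [hm, inv_mul_cancel_right]
  have haj : D.a ^ (p ^ j) ∈ L := by
    have : D.a ^ ((p : ℤ) ^ j) ∈ L := (hT _).mpr dvd_rfl
    rwa [← Nat.cast_pow, zpow_natCast] at this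
  have himage : ∀ (n k : ℤ), D.a ^ n * D.b ^ k ∈ L → (p : ℤ) ^ i ∣ k := by
    intro n k h
    refine (hS k).mp ⟨_, h, ?_⟩
    rw [map_mul, hπa, one_mul]
  refine ⟨i, hi, j, hj, m, hz ▸ hl, haj, fun k hk => (hT k).mp hk, himage, ?_, ?_⟩
  · intro x hx
    obtain ⟨n, k, rfl⟩ := D.cover x
    obtain ⟨q, rfl⟩ := himage n k hx
    set C := Subgroup.closure {D.a ^ (p ^ j), D.a ^ m * D.b ^ (p ^ i)}
    have hzC : l ∈ C := hz ▸ Subgroup.subset_closure (Set.mem_insert_of_mem _ rfl)
    have h1 : D.a ^ n * D.b ^ ((p : ℤ) ^ i * q) * (l ^ q)⁻¹ ∈ Subgroup.zpowers D.a := by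
      rw [← QuotientGroup.eq_one_iff]
      change π _ = 1
      rw [map_mul, map_mul, hπa, map_inv, map_zpow π l, hle, ← map_zpow, ← zpow_mul]
      simp
    obtain ⟨t, ht⟩ := h1
    simp only at ht
    have hty : D.a ^ t ∈ L := ht ▸ mul_mem hx (inv_mem (zpow_mem hl q))
    obtain ⟨u, hu⟩ := (hT t).mp hty
    have hE : D.a ^ n * D.b ^ ((p : ℤ) ^ i * q) = (D.a ^ (p ^ j)) ^ u * l ^ q := by
      rw [← zpow_natCast D.a (p ^ j), ← zpow_mul, Nat.cast_pow, ← hu, ht, inv_mul_cancel_right]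
    rw [hE]
    exact mul_mem (zpow_mem (Subgroup.subset_closure (Set.mem_insert _ _)) u) (zpow_mem hzC q)
  · have hker : (π.comp L.subtype).ker = (Subgroup.zpowers (D.a ^ (p ^ j))).subgroupOf L := by
      ext x
      rw [MonoidHom.mem_ker, Subgroup.mem_subgroupOf]
      constructor
      · intro hx
        obtain ⟨t, ht⟩ := (QuotientGroup.eq_one_iff (x : G)).mp hx
        simp only at ht
        obtain ⟨u, hu⟩ := (hT t).mp (show D.a ^ t ∈ L from ht ▸ x.2)
        refine ⟨u, ?_⟩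
        simp only
        rw [← zpow_natCast D.a (p ^ j), ← zpow_mul, Nat.cast_pow, ← hu, ht]
      · rintro ⟨u, hu⟩
        simp only at hu
        rw [MonoidHom.comp_apply, Subgroup.coe_subtype, ← hu, ← zpow_natCast D.a (p ^ j), ← zpow_mul]
        exact hπa _
    have hrange : (π.comp L.subtype).range = Subgroup.zpowers (π D.b ^ (p ^ i)) := by
      rw [MonoidHom.range_comp, Subgroup.range_subtype]
      refine le_antisymm ?_ ?_
      · rintro _ ⟨x, hx, rfl⟩
        obtain ⟨n, k, rfl⟩ := D.cover x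
        obtain ⟨q, rfl⟩ := himage n k hx
        refine ⟨q, ?_⟩
        simp only
        rw [map_mul, hπa, one_mul, ← zpow_natCast (π D.b) (p ^ i), ← zpow_mul, map_zpow]
        push_cast
        rfl
      · rw [Subgroup.zpowers_le, ← zpow_natCast, Nat.cast_pow, ← map_zpow]
        exact ⟨l, hl, hle⟩
    have := (π.comp L.subtype).ker.card_mul_index
    rw [Subgroup.index_ker, hrange, hker, Nat.card_zpowers,
      Nat.card_congr (Subgroup.subgroupOfEquivOfLe (Subgroup.zpowers_le.mpr haj)).toEquiv,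
      Nat.card_zpowers] at this
    rw [← this, orderOf_pow_of_dvd (pow_ne_zero _ (Fact.out : p.Prime).ne_zero)
      (by rw [D.hα]; exact pow_dvd_pow p hj),
      orderOf_pow_of_dvd (pow_ne_zero _ (Fact.out : p.Prime).ne_zero)
      (by rw [hord]; exact pow_dvd_pow p hi), D.hα, hord,
      Nat.pow_div hj (Fact.out : p.Prime).pos, Nat.pow_div hi (Fact.out : p.Prime).pos, pow_add]

theorem isMulCommutative_closure_pair {x y : G} (h : Commute x y) :
    IsMulCommutative ↥(Subgroup.closure ({x, y} : Set G)) := by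
  have hc : ∀ u ∈ Subgroup.closure ({x, y} : Set G), ∀ v ∈ Subgroup.closure ({x, y} : Set G),
      u * v = v * u := by
    intro u hu v hv
    induction hu, hv using Subgroup.closure_induction₂ with
    | mem u v hu hv =>
      rcases hu with rfl | rfl <;> rcases hv with rfl | rfl
      · rfl
      · exact h.eq
      · exact h.eq.symm
      · rfl
    | one_left v _ => simp
    | one_right u _ => simp
    | mul_left u v w _ _ _ h1 h2 => exact (Commute.mul_left h1 h2).eq
    | mul_right u v w _ _ _ h1 h2 => exact (Commute.mul_right h1 h2).eq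
    | inv_left u v _ _ h1 => exact (Commute.inv_left h1).eq
    | inv_right u v _ _ h1 => exact (Commute.inv_right h1).eq
  exact ⟨⟨fun u v => Subtype.ext (hc u u.2 v v.2)⟩⟩

theorem commute_gen_iff (i j : ℕ) (m : ℤ) :
    Commute (D.a ^ m * D.b ^ (p ^ i)) (D.a ^ (p ^ j)) ↔ D.e ≤ i + j := by
  rw [← D.hcomm]
  have h : Commute (D.a ^ m) (D.a ^ (p ^ j)) := ((Commute.refl D.a).zpow_left m).pow_right _
  refine ⟨fun hz => ?_, fun hz => h.mul_left hz⟩
  simpa using h.inv_left.mul_left hz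

theorem le_beta : D.e ≤ D.β := by
  have hm : D.b ^ ((p ^ D.β : ℕ) : ℤ) ∈ Subgroup.zpowers D.a := (D.hβ _).mpr (by push_cast; rfl)
  obtain ⟨m, hm⟩ := Subgroup.mem_zpowers_iff.mp hm
  rw [zpow_natCast] at hm
  have := (D.hcomm D.β 0).mp (by rw [← hm]; exact ((Commute.refl D.a).zpow_left m).pow_right _)
  simpa using this

theorem le_alpha : D.e ≤ D.α := by
  have := (D.hcomm 0 D.α).mp (by rw [← D.hα, pow_orderOf_eq_one]; exact Commute.one_right _)
  simpa using this

theorem index_center (D : Data G p) : (Subgroup.center G).index = Nat.card ↥(commutator G) ^ 2 := by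
  obtain ⟨i, hi, j, hj, m, hz, haj, hT, hS, -, hcard⟩ := D.subgroup_shape (Subgroup.center G)
  have hje : j = D.e := by
    refine le_antisymm ?_ ?_
    · have hmem : D.a ^ ((p ^ D.e : ℕ) : ℤ) ∈ Subgroup.center G := by
        rw [Subgroup.mem_center_iff]
        intro g
        obtain ⟨n, k, rfl⟩ := D.cover g
        have h1 : Commute D.b (D.a ^ (p ^ D.e)) := by
          simpa using (D.hcomm 0 D.e).mpr (by simp)
        rw [zpow_natCast]
        exact ((((Commute.refl D.a).zpow_left n).pow_right _).mul_left (h1.zpow_left k)).eq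
      have := hT _ hmem
      rw [Nat.cast_pow] at this
      exact (Nat.pow_dvd_pow_iff_le_right (Fact.out : p.Prime).one_lt).mp (by exact_mod_cast this)
    · have h1 : Commute D.b (D.a ^ (p ^ j)) := Subgroup.mem_center_iff.mp haj D.b
      simpa using (D.hcomm 0 j).mp (by simpa using h1)
  have hie : i = D.e := by
    refine le_antisymm ?_ ?_
    · have hmem : D.a ^ (0 : ℤ) * D.b ^ ((p ^ D.e : ℕ) : ℤ) ∈ Subgroup.center G := by
        rw [zpow_zero, one_mul, zpow_natCast, Subgroup.mem_center_iff]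
        intro g
        obtain ⟨n, k, rfl⟩ := D.cover g
        have h1 : Commute (D.b ^ (p ^ D.e)) D.a := by simpa using (D.hcomm D.e 0).mpr (by simp)
        exact ((h1.symm.zpow_left n).mul_left (((Commute.refl D.b).zpow_left k).pow_right _)).eq
      have := hS 0 _ hmem
      rw [Nat.cast_pow] at this
      exact (Nat.pow_dvd_pow_iff_le_right (Fact.out : p.Prime).one_lt).mp (by exact_mod_cast this)
    · have h1 : Commute (D.a ^ m * D.b ^ (p ^ i)) D.a := (Subgroup.mem_center_iff.mp hz D.a).symm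
      simpa using (D.commute_gen_iff i 0 m).mp (by simpa using h1)
  have h := (Subgroup.center G).card_mul_index
  rw [hcard, D.card_eq, hie, hje] at h
  rw [D.card_comm, ← pow_mul]
  refine Nat.eq_of_mul_eq_mul_left (pow_pos (Fact.out : p.Prime).pos (D.α - D.e + (D.β - D.e))) ?_
  rw [h, ← pow_add]
  congr 1
  have := D.le_alpha
  have := D.le_beta
  omega

theorem index_commutator (D : Data G p) : (commutator G).index = p ^ (D.α + D.β - D.e) := by
  have h := (commutator G).card_mul_index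
  rw [D.card_comm, D.card_eq] at h
  refine Nat.eq_of_mul_eq_mul_left (pow_pos (Fact.out : p.Prime).pos D.e) ?_
  rw [h, ← pow_add]
  congr 1
  have := D.le_alpha
  omega

theorem abelian_subgroups (D : Data G p) (L : Subgroup G) :
    (IsMulCommutative ↥L ↔ Nat.card ↥L ≤ (commutator G).index) ∧
      (Maximal (fun K : Subgroup G => IsMulCommutative ↥K) L ↔
        Nat.card ↥L = (commutator G).index) := by
  have hiff : ∀ K : Subgroup G, IsMulCommutative ↥K ↔ Nat.card ↥K ≤ (commutator G).index := by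
    intro K
    obtain ⟨i, hi, j, hj, m, hz, haj, -, -, hle, hcard⟩ := D.subgroup_shape K
    have key : (D.e ≤ i + j) ↔ Nat.card ↥K ≤ (commutator G).index := by
      rw [hcard, D.index_commutator, Nat.pow_le_pow_iff_right (Fact.out : p.Prime).one_lt]
      have := D.le_alpha
      have := D.le_beta
      omega
    rw [← key, ← D.commute_gen_iff i j m]
    constructor
    · intro h
      exact congrArg Subtype.val (h.is_comm.comm (⟨_, hz⟩ : K) ⟨_, haj⟩)
    · intro h
      have hc := isMulCommutative_closure_pair h.symm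
      refine ⟨⟨fun u v => Subtype.ext ?_⟩⟩
      have h2 := congrArg Subtype.val (hc.is_comm.comm ⟨(u : G), hle u.2⟩ ⟨(v : G), hle v.2⟩)
      simpa using h2
  refine ⟨hiff L, ⟨fun hmax => ?_, fun h => ⟨(hiff L).mpr h.le, fun K hK hLK => ?_⟩⟩⟩
  · refine le_antisymm ((hiff L).mp hmax.1) (not_lt.mp fun hlt => ?_)
    obtain ⟨i, hi, j, hj, m, hz, haj, hT, hS, hle, hcard⟩ := D.subgroup_shape L
    rw [hcard, D.index_commutator, Nat.pow_lt_pow_iff_right (Fact.out : p.Prime).one_lt] at hlt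
    have hlt' : D.e < i + j := by omega
    rcases Nat.eq_zero_or_pos j with rfl | hjpos
    · obtain ⟨i', rfl⟩ : ∃ i', i = i' + 1 := ⟨i - 1, by omega⟩
      rw [pow_zero, pow_one] at haj hle
      let K := Subgroup.closure ({D.a, D.b ^ (p ^ i')} : Set G)
      have hbc : Commute D.a (D.b ^ (p ^ i')) := by
        have := (D.hcomm i' 0).mpr (by omega)
        simpa using this.symm
      have hLK : L ≤ K := by
        have ha : D.a ∈ K := Subgroup.mem_closure_of_mem (Set.mem_insert _ _)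
        have hb : D.b ^ (p ^ i') ∈ K :=
          Subgroup.mem_closure_of_mem (Set.mem_insert_of_mem _ (Set.mem_singleton _))
        refine hle.trans ((Subgroup.closure_le _).mpr ?_)
        rintro x (rfl | rfl)
        · exact ha
        · refine K.mul_mem (K.zpow_mem ha m) ?_
          rw [pow_succ, pow_mul]
          exact K.pow_mem hb p
      have hb : D.a ^ (0 : ℤ) * D.b ^ ((p ^ i' : ℕ) : ℤ) ∈ L := by
        rw [zpow_zero, one_mul, zpow_natCast]
        have hKL : K ≤ L := hmax.2 (isMulCommutative_closure_pair hbc) hLK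
        exact hKL (Subgroup.mem_closure_of_mem (show D.b ^ (p ^ i') ∈ ({D.a, D.b ^ (p ^ i')} : Set G) by simp))
      have := hS 0 _ hb
      rw [Nat.cast_pow] at this
      have := (Nat.pow_dvd_pow_iff_le_right (Fact.out : p.Prime).one_lt).mp (by exact_mod_cast this :
        p ^ (i' + 1) ∣ p ^ i')
      omega
    · obtain ⟨j', rfl⟩ : ∃ j', j = j' + 1 := ⟨j - 1, by omega⟩
      let K := Subgroup.closure ({D.a ^ (p ^ j'), D.a ^ m * D.b ^ (p ^ i)} : Set G)
      have hbc : Commute (D.a ^ (p ^ j')) (D.a ^ m * D.b ^ (p ^ i)) :=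
        ((D.commute_gen_iff i j' m).mpr (by omega)).symm
      have hLK : L ≤ K := by
        have ha : D.a ^ (p ^ j') ∈ K := Subgroup.mem_closure_of_mem (Set.mem_insert _ _)
        have hb : D.a ^ m * D.b ^ (p ^ i) ∈ K :=
          Subgroup.mem_closure_of_mem (Set.mem_insert_of_mem _ (Set.mem_singleton _))
        refine hle.trans ((Subgroup.closure_le _).mpr ?_)
        rintro x (rfl | rfl)
        · rw [pow_succ, pow_mul]
          exact K.pow_mem ha p
        · exact hb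
      have hb : D.a ^ ((p ^ j' : ℕ) : ℤ) ∈ L := by
        rw [zpow_natCast]
        have hKL : K ≤ L := hmax.2 (isMulCommutative_closure_pair hbc) hLK
        exact hKL (Subgroup.mem_closure_of_mem (show D.a ^ (p ^ j') ∈ ({D.a ^ (p ^ j'), D.a ^ m * D.b ^ (p ^ i)} : Set G) by simp))
      have := hT _ hb
      rw [Nat.cast_pow] at this
      have := (Nat.pow_dvd_pow_iff_le_right (Fact.out : p.Prime).one_lt).mp (by exact_mod_cast this :
        p ^ (j' + 1) ∣ p ^ j')
      omega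
  · exact (Subgroup.eq_of_le_of_card_ge hLK (h ▸ (hiff K).mp hK)).ge

end Data

end CfsgLib.MetacyclicPGroup
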